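import Cfsg.Agent.Lib.Clifford.Basic
import Cfsg.Agent.Lib.DegreeBounds.Basic
import Cfsg.Agent.Lib.BlocksChars5.Basic
import Cfsg.Agent.Lib.Characters.Linear
import Cfsg.Agent.Lib.Characters.Complete
import Mathlib.GroupTheory.Sylow

/-!
# Groups all of whose degrees are smaller than a prime: inheritance and the Sylow subgroup
-/

namespace Cfsg.Agent.Lib.SmallDegrees.Basic

open Cfsg.Agent.Lib.Characters.Basic Cfsg.Agent.Lib.Characters.Complete
open scoped ComplexConjugate commutatorElement

universe u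

/-- All irreducible degrees are below `p`. -/
def Small (p : ℕ) (G : Type u) [Group G] : Prop :=
  ∀ χ : Cfsg.IrrCharacter G, Cfsg.charDegree (χ : G → ℂ) < p

variable {p : ℕ} {G : Type u} [Group G] [Finite G]

/-- An irreducible character of a subgroup is a constituent of a restriction. -/
theorem exists_over (H : Subgroup G) [Fintype H] (θ : Cfsg.IrrCharacter H) :
    ∃ χ : Cfsg.IrrCharacter G, Cfsg.classInner (fun h : H => (χ : G → ℂ) h) θ ≠ 0 := by
  classical
  have := Fintype.ofFinite G
  have := Fintype.ofFinite (Cfsg.IrrCharacter G)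
  by_contra hcon
  push Not at hcon
  have key : ∑ χ : Cfsg.IrrCharacter G,
      (χ : G → ℂ) 1 * Cfsg.classInner (fun h : H => (χ : G → ℂ) h) θ = 0 := by
    simp [hcon]
  simp only [Cfsg.classInner, Finset.mul_sum] at key
  have hpull : ∀ (g : G) (c d : ℂ), ∑ χ : Cfsg.IrrCharacter G,
      (χ : G → ℂ) 1 * (c * ((χ : G → ℂ) g * d)) =
      (if g = 1 then (Nat.card G : ℂ) else 0) * (c * d) := by
    intro g c d
    rw [← sum_degree_mul_apply g, Finset.sum_mul]
    exact Finset.sum_congr rfl fun χ _ => by ring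
  rw [Finset.sum_comm] at key
  simp only [hpull, OneMemClass.coe_eq_one, ite_mul, zero_mul, Finset.sum_ite_eq',
    Finset.mem_univ, if_true] at key
  simp only [mul_eq_zero, inv_eq_zero, map_eq_zero, Nat.cast_eq_zero] at key
  rcases key with h | h | h
  · exact Nat.card_pos.ne' h
  · exact Nat.card_pos.ne' h
  · exact apply_one_ne_zero θ h

theorem constituent_degree_le (H : Subgroup G) [Fintype H] (θ : Cfsg.IrrCharacter H)
    (χ : Cfsg.IrrCharacter G) (h : Cfsg.classInner (fun h : H => (χ : G → ℂ) h) θ ≠ 0) :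
    Cfsg.charDegree (θ : H → ℂ) ≤ Cfsg.charDegree (χ : G → ℂ) := by
  classical
  have := Fintype.ofFinite (Cfsg.IrrCharacter H)
  have hres : Cfsg.IsCharacter H (fun h : H => (χ : G → ℂ) h) :=
    isCharacter_comp H.subtype (isCharacter_irr χ)
  choose m hm using fun φ : Cfsg.IrrCharacter H => exists_classInner_nat hres (isCharacter_irr φ)
  have h1 := congrFun (classFunction_eq_sum (isClassFunction_of_isCharacter hres)) 1
  simp only [OneMemClass.coe_one, DegreeBounds.Basic.charDegree_irr, Finset.sum_apply,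
    Pi.smul_apply, smul_eq_mul, hm] at h1
  have h2 : Cfsg.charDegree (χ : G → ℂ) = ∑ φ, m φ * Cfsg.charDegree (φ : H → ℂ) := by
    exact_mod_cast h1
  rw [h2]
  refine le_trans ?_ (Finset.single_le_sum (fun _ _ => Nat.zero_le _) (Finset.mem_univ θ))
  refine Nat.le_mul_of_pos_left _ (Nat.pos_of_ne_zero fun h0 => h ?_)
  rw [hm, h0, Nat.cast_zero]

theorem Small.subgroup (h : Small p G) (H : Subgroup G) : Small p H := fun θ => by
  have := Fintype.ofFinite H
  obtain ⟨χ, hχ⟩ := exists_over H θ
  exact (constituent_degree_le H θ χ hχ).trans_lt (h χ)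

theorem Small.quotient (h : Small p G) (N : Subgroup G) [N.Normal] : Small p (G ⧸ N) := fun φ => by
  refine lt_of_eq_of_lt ?_ (h (BlocksChars5.Basic.inflate N φ))
  refine BlocksChars5.Basic.charDegree_congr ?_
  rw [BlocksChars5.Basic.inflate_apply, QuotientGroup.mk_one]

/-- Degrees of a `p`-subgroup are `1`. -/
theorem degree_one (h : Small p G) (hp : p.Prime) (hG : IsPGroup p G) (χ : Cfsg.IrrCharacter G) :
    Cfsg.charDegree (χ : G → ℂ) = 1 := by
  haveI : Fact p.Prime := ⟨hp⟩
  obtain ⟨n, hn⟩ := hG.exists_card_eq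
  obtain ⟨i, -, hi⟩ := (Nat.dvd_prime_pow hp).mp (hn ▸ DegreeBounds.Basic.charDegree_dvd χ)
  match i with
  | 0 => simpa using hi
  | i + 1 =>
    have := h χ
    rw [hi] at this
    exact absurd this (Nat.le_self_pow (Nat.succ_ne_zero i) p).not_gt

theorem comm_of_degree_one (h : ∀ χ : Cfsg.IrrCharacter G, Cfsg.charDegree (χ : G → ℂ) = 1)
    (a b : G) : a * b = b * a := by
  rw [← commutatorElement_eq_one_iff_mul_comm]
  refine eq_one_of_forall_irr fun χ => ?_
  have h1 : (χ : G → ℂ) 1 = 1 := by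
    rw [DegreeBounds.Basic.charDegree_irr, h χ, Nat.cast_one]
  rw [h1, ← Characters.Linear.degOneHom_apply (isCharacter_irr χ) h1, map_commutatorElement,
    commutatorElement_eq_one_iff_mul_comm.mpr (mul_comm _ _), Units.val_one]

theorem Small.comm (h : Small p G) (hp : p.Prime) {P : Subgroup G} (hP : IsPGroup p P) :
    ∀ a ∈ P, ∀ b ∈ P, a * b = b * a := fun a ha b hb =>
  congrArg Subtype.val
    (comm_of_degree_one (degree_one (h.subgroup P) hp hP) (⟨a, ha⟩ : P) ⟨b, hb⟩)

end Cfsg.Agent.Lib.SmallDegrees.Basic
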