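import Cfsg.Agent.Lib.SmallDegrees.Simple
import Cfsg.Agent.Lib.Elem70.Basic
import Cfsg.Agent.Lib.Clifford.Basic
import Mathlib.GroupTheory.GroupAction.ConjAct

/-!
# All degrees below `p`: the Sylow `p`-subgroup is normal and abelian
-/

namespace Cfsg.Agent.Lib.SmallDegrees.Main

open Cfsg.Agent.Lib.Characters.Basic Cfsg.Agent.Lib.Characters.Complete
open Cfsg.Agent.Lib.SmallDegrees.Basic

universe u

variable {p : ℕ} [Fact p.Prime]

/-- Over a normal `p'`-subgroup with a `p`-group on top, the Sylow subgroup centralises. -/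
theorem normal_of_sup_eq_top {G : Type u} [Group G] [Finite G] (h : Small p G) (P : Sylow p G)
    (N : Subgroup G) [N.Normal] (hN : ¬ p ∣ Nat.card N) (hsup : (P : Subgroup G) ⊔ N = ⊤) :
    (P : Subgroup G).Normal := by
  classical
  have := Fintype.ofFinite G
  have := Fintype.ofFinite N
  have hp : p.Prime := Fact.out
  -- the index of `N` is a power of `p`
  obtain ⟨k, hk⟩ : ∃ k, N.index ∣ p ^ k := by
    obtain ⟨k, hk⟩ := P.isPGroup'.exists_card_eq
    refine ⟨k, ?_⟩
    rw [← hk, ← Subgroup.relIndex_top_right, ← hsup, Subgroup.relIndex_sup_right]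
    exact Subgroup.relIndex_dvd_card _ _
  -- every character of `N` is invariant
  have hinv : ∀ (θ : Cfsg.IrrCharacter N) (g : G),
      Clifford.Basic.conjC N g (θ : N → ℂ) = (θ : N → ℂ) := by
    intro θ g
    obtain ⟨χ, hχ⟩ := exists_over N θ
    set T := Clifford.Basic.inertia N (θ : N → ℂ) with hT
    suffices hTtop : T = ⊤ by exact (hTtop ▸ Subgroup.mem_top g : g ∈ T)
    have hd := Clifford.Basic.clifford_degree N χ.2 θ hχ
    obtain ⟨m, hm⟩ := exists_classInner_nat
      (isCharacter_comp N.subtype (isCharacter_irr χ)) (isCharacter_irr θ)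
    have hm' : Cfsg.classInner (fun n : N => (χ : G → ℂ) n) θ = (m : ℂ) := hm
    rw [hm', DegreeBounds.Basic.charDegree_irr, DegreeBounds.Basic.charDegree_irr] at hd
    have hd' : Cfsg.charDegree (χ : G → ℂ) = m * T.index * Cfsg.charDegree (θ : N → ℂ) := by
      exact_mod_cast hd
    have hm0 : m ≠ 0 := fun h0 => hχ (by rw [hm', h0, Nat.cast_zero])
    have hle : T.index ≤ Cfsg.charDegree (χ : G → ℂ) := by
      rw [hd']
      refine le_trans (Nat.le_mul_of_pos_left _ (Nat.pos_of_ne_zero hm0)) ?_
      exact Nat.le_mul_of_pos_right _ (DegreeBounds.Basic.charDegree_pos θ)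
    obtain ⟨i, -, hi⟩ := (Nat.dvd_prime_pow hp).mp
      ((Subgroup.index_dvd_of_le (Clifford.Basic.le_inertia N (isClassFunction_irr θ))).trans hk)
    rw [← Subgroup.index_eq_one]
    match i with
    | 0 => rw [hi, pow_zero]
    | i + 1 =>
      have := hle.trans_lt (h χ)
      rw [hi] at this
      exact absurd this (Nat.le_self_pow (Nat.succ_ne_zero i) p).not_gt
  -- every element of `N` is conjugate in `N` to one centralised by `P`
  have hD : (Subgroup.centralizer ((P : Subgroup G) : Set G)).subgroupOf N = ⊤ := by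
    refine Elem70.eq_top_of_forall_conj _ fun n => ?_
    have hconjN : ∀ g : G, IsConj n
        (⟨g * n * g⁻¹, Subgroup.Normal.conj_mem inferInstance (n : G) n.2 g⟩ : N) := by
      intro g
      rw [isConj_iff_forall_irr]
      exact fun θ => (congrFun (hinv θ g) n).symm
    set C := Subgroup.centralizer ({(n : G)} : Set G)
    have hcard : Nat.card {x : N // IsConj n x} = Nat.card {x : G // IsConj (n : G) x} := by
      refine Nat.card_congr (Equiv.ofBijective
        (fun x => ⟨(x.1 : G), N.subtype.map_isConj x.2⟩) ⟨?_, ?_⟩)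
      · intro a b hab
        exact Subtype.ext (Subtype.ext
          (congrArg (fun z : {x : G // IsConj (n : G) x} => (z : G)) hab))
      · rintro ⟨y, hy⟩
        obtain ⟨g, rfl⟩ := isConj_iff.mp hy
        exact ⟨⟨_, hconjN g⟩, rfl⟩
    have hidx : ¬ p ∣ Nat.card (G ⧸ C) := by
      intro hd
      refine hN (dvd_trans ?_ (Dvd.intro _ (card_conjugates_mul_centralizer n)))
      rw [hcard]
      have h1 := card_conjugates_mul_centralizer (n : G)
      rw [← Subgroup.index_mul_card C] at h1
      rwa [Nat.eq_of_mul_eq_mul_right Nat.card_pos h1]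
    obtain ⟨q, hq⟩ := P.isPGroup'.nonempty_fixed_point_of_prime_not_dvd_card (G ⧸ C) hidx
    obtain ⟨g, rfl⟩ := QuotientGroup.mk_surjective q
    obtain ⟨c, hc⟩ := isConj_iff.mp (hconjN g)
    refine ⟨c⁻¹, ?_⟩
    rw [inv_inv, hc, Subgroup.mem_subgroupOf, Subgroup.mem_centralizer_iff]
    intro a ha
    have h1 : ((⟨a, ha⟩ : (P : Subgroup G)) : G) * g = g * (g⁻¹ * a * g) := by group
    have h2 : g⁻¹ * a * g ∈ C := by
      have h3 : ((a * g : G) : G ⧸ C) = (g : G ⧸ C) := hq ⟨a, ha⟩
      rw [QuotientGroup.eq] at h3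
      have h4 := inv_mem h3
      simp only [mul_inv_rev, inv_inv] at h4
      simpa [mul_assoc] using h4
    have h3 := Subgroup.mem_centralizer_singleton_iff.mp h2
    show a * (g * n * g⁻¹) = g * n * g⁻¹ * a
    calc a * (g * n * g⁻¹) = g * ((g⁻¹ * a * g) * n) * g⁻¹ := by group
      _ = g * (n * (g⁻¹ * a * g)) * g⁻¹ := by rw [h3]
      _ = g * n * g⁻¹ * a := by group
  rw [← Subgroup.normalizer_eq_top_iff, eq_top_iff, ← hsup, sup_le_iff]
  refine ⟨Subgroup.le_normalizer, fun n hn => Subgroup.mem_normalizer_iff.mpr fun a => ?_⟩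
  have hnc : n ∈ Subgroup.centralizer ((P : Subgroup G) : Set G) := by
    have : (⟨n, hn⟩ : N) ∈ (Subgroup.centralizer ((P : Subgroup G) : Set G)).subgroupOf N :=
      hD ▸ Subgroup.mem_top _
    exact this
  rw [Subgroup.mem_centralizer_iff] at hnc
  constructor
  · intro ha
    rwa [← hnc a ha, mul_inv_cancel_right]
  · intro ha
    have h1 := hnc _ ha
    have h2 : n * a * n⁻¹ = a := by
      calc n * a * n⁻¹ = n⁻¹ * ((n * a * n⁻¹) * n) := by rw [h1]; group
        _ = a := by group
    rwa [h2] at ha

/-- The Sylow subgroup is normal. -/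
theorem sylow_normal (m : ℕ) : ∀ (G : Type u) [Group G] [Finite G], Nat.card G = m → Small p G →
    ∀ P : Sylow p G, (P : Subgroup G).Normal := by
  induction m using Nat.strong_induction_on with
  | _ m ih =>
    intro G _ _ hm h P
    have hp : p.Prime := Fact.out
    have hchar : ∀ (K : Subgroup G) [K.Normal] (Q : Sylow p K), Nat.card K < m →
        ((Q : Subgroup K).map K.subtype).Normal := by
      intro K _ Q hK
      haveI := Q.characteristic_of_normal (ih _ hK K rfl (h.subgroup K) Q)
      infer_instance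
    by_cases hcomm : IsMulCommutative G
    · exact ⟨fun a ha g => by rwa [mul_comm' g a, mul_inv_cancel_right]⟩
    by_cases hpdvd : p ∣ Nat.card G
    swap
    · obtain ⟨k, hk⟩ := P.isPGroup'.exists_card_eq
      match k with
      | 0 =>
        rw [pow_zero] at hk
        rw [Subgroup.card_eq_one.mp hk]
        infer_instance
      | k + 1 =>
        exact absurd ((dvd_pow_self p (Nat.succ_ne_zero k)).trans
          (hk ▸ Subgroup.card_subgroup_dvd_card _)) hpdvd
    haveI : Nontrivial G := by
      by_contra hn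
      rw [not_nontrivial_iff_subsingleton] at hn
      exact hcomm ⟨⟨fun a b => Subsingleton.elim _ _⟩⟩
    obtain ⟨N, hNn, hN1, hN2⟩ : ∃ N : Subgroup G, N.Normal ∧ N ≠ ⊥ ∧ N ≠ ⊤ := by
      by_contra hcon
      push Not at hcon
      haveI : IsSimpleGroup G := ⟨fun N hN => or_iff_not_imp_left.mpr (hcon N hN)⟩
      exact Simple.false_of_simple hp h hcomm hpdvd
    have hNlt : Nat.card N < m := by
      rw [← hm]
      exact lt_of_le_of_ne (Nat.le_of_dvd Nat.card_pos (Subgroup.card_subgroup_dvd_card N))
        fun he => hN2 (Subgroup.eq_top_of_card_eq N he)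
    have hquot : ∀ (R : Subgroup G) [R.Normal], R ≠ ⊥ →
        (((P : Subgroup G).map (QuotientGroup.mk' R)).comap (QuotientGroup.mk' R)).Normal := by
      intro R _ hR
      have hlt : Nat.card (G ⧸ R) < m := by
        rw [← hm, Subgroup.card_eq_card_quotient_mul_card_subgroup R]
        exact lt_mul_of_one_lt_right Nat.card_pos (R.one_lt_card_iff_ne_bot.mpr hR)
      have := ih _ hlt (G ⧸ R) rfl (h.quotient R)
        (P.mapSurjective (QuotientGroup.mk'_surjective R))
      rw [Sylow.coe_mapSurjective] at this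
      exact this.comap _
    obtain ⟨Q⟩ := (inferInstance : Nonempty (Sylow p N))
    by_cases hQ : (Q : Subgroup N) = ⊥
    · have hpN : ¬ p ∣ Nat.card N := by
        intro hd
        have h1 := Sylow.card_eq_multiplicity Q
        rw [hQ, Subgroup.card_bot] at h1
        have h2 : 0 < (Nat.card N).factorization p := hp.factorization_pos_of_dvd Nat.card_pos.ne' hd
        exact absurd h1.symm (Nat.one_lt_pow h2.ne' hp.one_lt).ne'
      have hK := hquot N hN1
      rw [QuotientGroup.comap_map_mk'] at hK
      by_cases hKtop : N ⊔ (P : Subgroup G) = ⊤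
      · exact normal_of_sup_eq_top h P N hpN (by rw [sup_comm, hKtop])
      · have hKlt : Nat.card (N ⊔ (P : Subgroup G) : Subgroup G) < m := by
          rw [← hm]
          exact lt_of_le_of_ne (Nat.le_of_dvd Nat.card_pos (Subgroup.card_subgroup_dvd_card _))
            fun he => hKtop (Subgroup.eq_top_of_card_eq _ he)
        haveI := hK
        have := hchar _ (P.subtype le_sup_right) hKlt
        rwa [Sylow.coe_subtype, Subgroup.map_subgroupOf_eq_of_le le_sup_right] at this
    · set R := (Q : Subgroup N).map N.subtype with hR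
      haveI : R.Normal := hchar N Q hNlt
      have hRp : IsPGroup p R := Q.isPGroup'.map _
      have hRP : R ≤ (P : Subgroup G) := by
        have h1 : IsPGroup p (R ⊔ (P : Subgroup G) : Subgroup G) :=
          hRp.to_sup_of_normal_left P.isPGroup'
        exact le_sup_left.trans (P.is_maximal' h1 le_sup_right).le
      have hR1 : R ≠ ⊥ := fun he => hQ ((Subgroup.map_eq_bot_iff_of_injective _
        N.subtype_injective).mp he)
      have := hquot R hR1
      rwa [QuotientGroup.comap_map_mk', sup_eq_right.mpr hRP] at this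

end Cfsg.Agent.Lib.SmallDegrees.Main
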