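import Cfsg.Agent.Lib.SmallDegrees.Basic
import Cfsg.Agent.Lib.FirstPower.Consequences
import Cfsg.Agent.Lib.MathieuBlocks.Values
import Mathlib.GroupTheory.GroupAction.Quotient
import Mathlib.GroupTheory.Perm.Basic

/-!
# No simple group of order divisible by `p` has all its degrees below `p`

The squared values on a Sylow subgroup bound its order by `p`.  The block relation then leaves
`1`, one character of degree `p - 1` and a family of degree `p - 2`, whose values at a further
element are not integral.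
-/

namespace Cfsg.Agent.Lib.SmallDegrees.Simple

open Cfsg.Agent.Lib.Characters.Basic Cfsg.Agent.Lib.Characters.Complete
open Cfsg.Agent.Lib.SmallDegrees.Basic
open Cfsg.Agent.Lib.FirstPower
open Cfsg.Agent.Lib.FirstPower.Periods Cfsg.Agent.Lib.FirstPower.Average
open Cfsg.Agent.Lib.FirstPower.Consequences
open Cfsg.Agent.Lib.FirstPower.Family (pow_eq_one_of_order)
open Cfsg.Agent.Lib.FirstPower.CharOrbit (IsVPart)
open scoped ComplexConjugate commutatorElement

universe u

variable {p : ℕ} {G : Type u} [Group G] [Finite G]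

/-- The degree bounds the squared values on an abelian subgroup from below. -/
theorem degree_le_classInner (H : Subgroup G) [Fintype H]
    (hH : ∀ θ : Cfsg.IrrCharacter H, Cfsg.charDegree (θ : H → ℂ) = 1) (χ : Cfsg.IrrCharacter G) :
    (Cfsg.charDegree (χ : G → ℂ) : ℝ) ≤
      (Nat.card H : ℝ)⁻¹ * ∑ h : H, Complex.normSq ((χ : G → ℂ) h) := by
  classical
  have := Fintype.ofFinite (Cfsg.IrrCharacter H)
  have hres : Cfsg.IsCharacter H (fun h : H => (χ : G → ℂ) h) :=
    isCharacter_comp H.subtype (isCharacter_irr χ)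
  choose m hm using fun φ : Cfsg.IrrCharacter H => exists_classInner_nat hres (isCharacter_irr φ)
  have hexp := classFunction_eq_sum (isClassFunction_of_isCharacter hres)
  have h1 := congrFun hexp 1
  simp only [OneMemClass.coe_one, DegreeBounds.Basic.charDegree_irr, Finset.sum_apply,
    Pi.smul_apply, smul_eq_mul, hm, hH, Nat.cast_one, mul_one] at h1
  have h2 : Cfsg.classInner (fun h : H => (χ : G → ℂ) h) (fun h : H => (χ : G → ℂ) h) =
      ((∑ φ, m φ * m φ : ℕ) : ℂ) := by
    conv_lhs => arg 2; rw [hexp]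
    rw [classInner_sum_right, Nat.cast_sum]
    refine Finset.sum_congr rfl fun φ _ => ?_
    have : Cfsg.classInner (fun h : H => (χ : G → ℂ) h)
        (Cfsg.classInner (fun h : H => (χ : G → ℂ) h) (φ : H → ℂ) • (φ : H → ℂ)) =
        conj (Cfsg.classInner (fun h : H => (χ : G → ℂ) h) (φ : H → ℂ)) *
          Cfsg.classInner (fun h : H => (χ : G → ℂ) h) (φ : H → ℂ) := by
      simp only [Cfsg.classInner, Pi.smul_apply, smul_eq_mul, Finset.mul_sum, map_mul]
      exact Finset.sum_congr rfl fun h _ => by ring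
    rw [this, hm, Complex.conj_natCast, Nat.cast_mul]
  have h3 : ((((Nat.card H : ℝ)⁻¹ * ∑ h : H, Complex.normSq ((χ : G → ℂ) h)) : ℝ) : ℂ) =
      (((∑ φ, m φ * m φ : ℕ) : ℝ) : ℂ) := by
    rw [Complex.ofReal_natCast, ← h2, Cfsg.classInner]
    push_cast
    simp only [Complex.mul_conj]
  rw [Complex.ofReal_inj.mp h3, Nat.cast_le]
  have h4 : Cfsg.charDegree (χ : G → ℂ) = ∑ φ, m φ := by exact_mod_cast h1
  rw [h4]
  exact Finset.sum_le_sum fun φ _ => Nat.le_mul_self _

/-- A proper subgroup of a simple group of order divisible by `p` has index at least `p`. -/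
theorem le_index [IsSimpleGroup G] (hp : p.Prime) (hdvd : p ∣ Nat.card G) {H : Subgroup G}
    (hH : H ≠ ⊤) : p ≤ H.index := by
  have hcore : H.normalCore = ⊥ :=
    (Subgroup.normalCore_normal H).eq_bot_or_eq_top.resolve_right fun h =>
      hH (top_le_iff.mp (h ▸ H.normalCore_le))
  have hinj : Function.Injective (MulAction.toPermHom G (G ⧸ H)) := by
    rw [← MonoidHom.ker_eq_bot_iff, ← Subgroup.normalCore_eq_ker, hcore]
  have h1 := Subgroup.card_dvd_of_injective _ hinj
  rw [Nat.card_perm, ← Subgroup.index] at h1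
  exact hp.dvd_factorial.mp (hdvd.trans h1)

theorem center_eq_bot [IsSimpleGroup G] (hnc : ¬ IsMulCommutative G) : Subgroup.center G = ⊥ :=
  (inferInstance : (Subgroup.center G).Normal).eq_bot_or_eq_top.resolve_right fun h =>
    hnc ⟨⟨fun a b => (Subgroup.mem_center_iff.mp (h ▸ Subgroup.mem_top b) a)⟩⟩

/-- `p` divides the order exactly once. -/
theorem not_sq_dvd [IsSimpleGroup G] (hp : p.Prime) (h : Small p G) (hnc : ¬ IsMulCommutative G)
    (hdvd : p ∣ Nat.card G) : ¬ p ^ 2 ∣ Nat.card G := by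
  classical
  haveI : Fact p.Prime := ⟨hp⟩
  intro h2
  have := Fintype.ofFinite G
  have := Fintype.ofFinite (Cfsg.IrrCharacter G)
  obtain ⟨H, hHc⟩ := Sylow.exists_subgroup_card_pow_prime p h2
  have := Fintype.ofFinite H
  have hH := degree_one (h.subgroup H) hp (IsPGroup.of_card (n := 2) hHc)
  have hN : (0 : ℝ) < Nat.card G := by exact_mod_cast Nat.card_pos
  have hp1 : (2 : ℝ) ≤ p := by exact_mod_cast hp.two_le
  have hcol : ∀ g : G, ∑ χ : Cfsg.IrrCharacter G, Complex.normSq ((χ : G → ℂ) g) =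
      (Nat.card (Subgroup.centralizer ({g} : Set G)) : ℝ) := by
    intro g
    have h1 := sum_irr_mul_conj g g
    rw [if_pos (IsConj.refl g)] at h1
    simp only [Complex.mul_conj] at h1
    exact_mod_cast h1
  have hC : ∀ g : G, g ≠ 1 →
      (p : ℝ) * Nat.card (Subgroup.centralizer ({g} : Set G)) ≤ Nat.card G := by
    intro g hg
    have hne : Subgroup.centralizer ({g} : Set G) ≠ ⊤ := by
      intro htop
      have : g ∈ Subgroup.center G := Subgroup.mem_center_iff.mpr fun x =>
        (Subgroup.mem_centralizer_singleton_iff.mp (htop ▸ Subgroup.mem_top x))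
      rw [center_eq_bot hnc, Subgroup.mem_bot] at this
      exact hg this
    have h1 : p * Nat.card (Subgroup.centralizer ({g} : Set G)) ≤ Nat.card G := by
      rw [← Subgroup.index_mul_card (Subgroup.centralizer ({g} : Set G))]
      exact Nat.mul_le_mul_right _ (le_index hp hdvd hne)
    exact_mod_cast h1
  -- upper bound
  have hup : ∑ χ : Cfsg.IrrCharacter G, (p : ℝ) ^ 2 * Cfsg.charDegree (χ : G → ℂ) ≤
      ∑ h : H, (Nat.card (Subgroup.centralizer ({(h : G)} : Set G)) : ℝ) := by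
    calc ∑ χ : Cfsg.IrrCharacter G, (p : ℝ) ^ 2 * Cfsg.charDegree (χ : G → ℂ)
        ≤ ∑ χ : Cfsg.IrrCharacter G, ∑ h : H, Complex.normSq ((χ : G → ℂ) h) := by
          refine Finset.sum_le_sum fun χ _ => ?_
          have h1 := degree_le_classInner H hH χ
          rw [hHc, Nat.cast_pow] at h1
          rwa [← le_inv_mul_iff₀ (by positivity)]
      _ = _ := by
          rw [Finset.sum_comm]
          exact Finset.sum_congr rfl fun h _ => hcol h
  have hlow : (Nat.card G : ℝ) ≤
      ((p : ℝ) - 1) * ∑ χ : Cfsg.IrrCharacter G, (Cfsg.charDegree (χ : G → ℂ) : ℝ) := by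
    have h1 : ((∑ χ : Cfsg.IrrCharacter G, Cfsg.charDegree (χ : G → ℂ) *
        Cfsg.charDegree (χ : G → ℂ) : ℕ) : ℂ) = (Nat.card G : ℂ) := by
      have h2 := sum_degree_mul_apply (G := G) 1
      rw [if_pos rfl] at h2
      simp only [DegreeBounds.Basic.charDegree_irr] at h2
      exact_mod_cast h2
    rw [Finset.mul_sum]
    have h3 : (Nat.card G : ℝ) = ∑ χ : Cfsg.IrrCharacter G,
        (Cfsg.charDegree (χ : G → ℂ) : ℝ) * Cfsg.charDegree (χ : G → ℂ) := by
      exact_mod_cast h1.symm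
    rw [h3]
    refine Finset.sum_le_sum fun χ _ => mul_le_mul_of_nonneg_right ?_ (Nat.cast_nonneg _)
    have : (Cfsg.charDegree (χ : G → ℂ) : ℝ) + 1 ≤ p := by exact_mod_cast Nat.succ_le_of_lt (h χ)
    linarith
  have hsum : (p : ℝ) * ∑ h : H, (Nat.card (Subgroup.centralizer ({(h : G)} : Set G)) : ℝ) ≤
      ((p : ℝ) + ((p : ℝ) ^ 2 - 1)) * Nat.card G := by
    rw [← Finset.add_sum_erase _ _ (Finset.mem_univ (1 : H)), mul_add, Finset.mul_sum]
    have h1 : ∑ h ∈ Finset.univ.erase (1 : H),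
        (p : ℝ) * Nat.card (Subgroup.centralizer ({(h : G)} : Set G)) ≤
        ((p : ℝ) ^ 2 - 1) * Nat.card G := by
      calc ∑ h ∈ Finset.univ.erase (1 : H),
            (p : ℝ) * Nat.card (Subgroup.centralizer ({(h : G)} : Set G))
          ≤ ∑ h ∈ Finset.univ.erase (1 : H), (Nat.card G : ℝ) :=
            Finset.sum_le_sum fun k hk => hC k fun e =>
              (Finset.mem_erase.mp hk).1 (Subtype.ext e)
        _ = _ := by
          rw [Finset.sum_const, Finset.card_erase_of_mem (Finset.mem_univ _), Finset.card_univ,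
            nsmul_eq_mul, ← Nat.card_eq_fintype_card, hHc, Nat.cast_sub (Nat.one_le_pow _ _ hp.pos),
            Nat.cast_pow, Nat.cast_one]
    have h2 : (Nat.card (Subgroup.centralizer ({((1 : H) : G)} : Set G)) : ℝ) ≤ Nat.card G := by
      exact_mod_cast Nat.le_of_dvd Nat.card_pos (Subgroup.card_subgroup_dvd_card _)
    have := mul_le_mul_of_nonneg_left h2 (by linarith : (0 : ℝ) ≤ p)
    linarith
  rw [← Finset.mul_sum] at hup
  set S := ∑ χ : Cfsg.IrrCharacter G, (Cfsg.charDegree (χ : G → ℂ) : ℝ)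
  have h3 : (p : ℝ) ^ 3 * Nat.card G ≤
      ((p : ℝ) - 1) * (((p : ℝ) + ((p : ℝ) ^ 2 - 1)) * Nat.card G) := by
    calc (p : ℝ) ^ 3 * Nat.card G ≤ (p : ℝ) ^ 3 * (((p : ℝ) - 1) * S) :=
          mul_le_mul_of_nonneg_left hlow (by positivity)
      _ = ((p : ℝ) - 1) * ((p : ℝ) * ((p : ℝ) ^ 2 * S)) := by ring
      _ ≤ _ := by
          refine mul_le_mul_of_nonneg_left ?_ (by linarith)
          exact (mul_le_mul_of_nonneg_left hup (by linarith)).trans hsum
  nlinarith [h3, hN, hp1]

/-- If `x` has no nonzero fixed vector, the sum of the values over a coset of `⟨x⟩` in its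
centralizer vanishes. -/
theorem sum_mul_eq_zero [Fact p.Prime] {x : G} (hx : x ^ p = 1) {χ : G → ℂ}
    (hχ : Cfsg.IsCharacter G χ) (h0 : ∑ z : ZMod p, χ (x ^ z.val) = 0) (v : G) :
    ∑ z : ZMod p, χ (x ^ z.val * v) = 0 := by
  classical
  obtain ⟨d, ρ, rfl⟩ := hχ
  set A : Module.End ℂ (Fin d → ℂ) := (p : ℂ)⁻¹ • ∑ z : ZMod p, ρ (x ^ z.val) with hA
  have hp0 : (p : ℂ) ≠ 0 := Nat.cast_ne_zero.mpr (Fact.out : p.Prime).ne_zero
  have hidem : IsIdempotentElem A := by
    have h : ∀ a : ZMod p, ρ (x ^ a.val) * ∑ z : ZMod p, ρ (x ^ z.val) =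
        ∑ z : ZMod p, ρ (x ^ z.val) := by
      intro a
      rw [Finset.mul_sum]
      refine Fintype.sum_equiv (Equiv.addLeft a) _ _ fun z => ?_
      rw [← map_mul, ← pow_val_add hx]
      rfl
    show A * A = A
    simp only [A, smul_mul_smul_comm, Finset.sum_mul, h, Finset.sum_const, Finset.card_univ,
      ZMod.card, ← Nat.cast_smul_eq_nsmul ℂ, smul_smul]
    congr 1
    field_simp
  have hA0 : A = 0 := by
    have h1 := (LinearMap.IsIdempotentElem.isProj_range A hidem).trace
    have h2 : LinearMap.trace ℂ _ A = 0 := by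
      simp only [A, map_smul, map_sum]
      show (p : ℂ)⁻¹ • ∑ z : ZMod p, ρ.character (x ^ z.val) = 0
      rw [h0, smul_zero]
    rw [h2, eq_comm, Nat.cast_eq_zero] at h1
    exact LinearMap.range_eq_bot.mp (Submodule.finrank_eq_zero.mp h1)
  have h3 : ∑ z : ZMod p, ρ (x ^ z.val * v) = 0 := by
    have : ∑ z : ZMod p, ρ (x ^ z.val) = 0 := by
      rw [← smul_eq_zero_iff_right (inv_ne_zero hp0)]
      exact hA0
    simp only [map_mul, ← Finset.sum_mul, this, zero_mul]
  have := congrArg (LinearMap.trace ℂ _) h3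
  rw [map_sum, map_zero] at this
  exact this

/-- No simple group. -/
theorem false_of_simple [IsSimpleGroup G] (hp : p.Prime) (h : Small p G)
    (hnc : ¬ IsMulCommutative G) (hdvd : p ∣ Nat.card G) : False := by
  classical
  haveI : Fact p.Prime := ⟨hp⟩
  have hperf : commutator G = ⊤ :=
    (inferInstance : (commutator G).Normal).eq_bot_or_eq_top.resolve_left fun hb => hnc ⟨⟨fun a b => by
      have : ⁅a, b⁆ ∈ commutator G :=
        Subgroup.commutator_mem_commutator (Subgroup.mem_top a) (Subgroup.mem_top b)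
      rwa [hb, Subgroup.mem_bot, commutatorElement_eq_one_iff_mul_comm] at this⟩⟩
  have h2 := not_sq_dvd hp h hnc hdvd
  obtain ⟨x, hx⟩ := exists_prime_orderOf_dvd_card' p hdvd
  have hxp := pow_eq_one_of_order hx
  obtain ⟨V, hV⟩ := Family.exists_vpart hx h2
  obtain ⟨R, Y, a, δ, hYinj, hYR, hδ, h1R, ha1, hRc, hR, hY, hzero, hYreg, hrel⟩ :=
    Family.exists_family hx h2 hV
  haveI := Fintype.ofFinite ((ZMod p)ˣ ⧸ autE hxp)
  haveI := Fintype.ofFinite (autE hxp)
  haveI := Fintype.ofFinite (Cfsg.IrrCharacter G)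
  have hdeg1 : ∀ χ : Cfsg.IrrCharacter G, χ ≠ oneChar G → Cfsg.charDegree (χ : G → ℂ) ≠ 1 :=
    fun χ hχ h1 => hχ (charDegree_eq_one_of_perfect hperf χ h1)
  have hY1 : Y 1 ≠ oneChar G := fun he => hYR 1 (he ▸ h1R)
  -- the signs and degrees of the nonexceptional characters
  have hneg : ∀ χ ∈ R, χ ≠ oneChar G → a χ = -1 ∧ Cfsg.charDegree (χ : G → ℂ) + 1 = p := by
    intro χ hχ hne
    obtain ⟨ha, hval⟩ := hR χ hχ
    have hd := degree_of_const hxp χ (a := a χ) (fun u => by simpa using hval u 1 (one_mem V))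
    have hlt := h χ
    have hpos := DegreeBounds.Basic.charDegree_pos χ
    rcases ha with h1 | h1
    · exfalso
      rw [h1, Int.cast_one] at hd
      refine hdeg1 χ hne ?_
      have := congrArg ZMod.val hd
      rwa [ZMod.val_natCast, Nat.mod_eq_of_lt hlt, ZMod.val_one] at this
    · refine ⟨h1, ?_⟩
      rw [h1, Int.cast_neg, Int.cast_one] at hd
      have hdv : p ∣ Cfsg.charDegree (χ : G → ℂ) + 1 := by
        rw [← ZMod.natCast_eq_zero_iff, Nat.cast_add, hd, Nat.cast_one, neg_add_cancel]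
      exact le_antisymm hlt (Nat.le_of_dvd (Nat.succ_pos _) hdv)
  have hn0lt := h (Y 1)
  have hn0pos := DegreeBounds.Basic.charDegree_pos (Y 1)
  set n0 := Cfsg.charDegree (Y 1 : G → ℂ)
  -- the relation at the identity
  have hrel1 : (1 : ℤ) - ((R.card : ℤ) - 1) * ((p : ℤ) - 1) = δ * n0 := by
    have h1 := hrel 1 (by simp [hp.ne_one])
    rw [← Finset.add_sum_erase _ _ h1R, ha1, oneChar_apply, Finset.sum_congr rfl
      (fun χ hχ => show (a χ : ℂ) * (χ : G → ℂ) 1 = -((p : ℂ) - 1) by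
        obtain ⟨e1, e2⟩ := hneg χ (Finset.mem_of_mem_erase hχ) (Finset.ne_of_mem_erase hχ)
        rw [e1, DegreeBounds.Basic.charDegree_irr, ← e2]
        push_cast
        ring), Finset.sum_const, Finset.card_erase_of_mem h1R, nsmul_eq_mul,
      Nat.cast_sub (Finset.card_pos.mpr ⟨_, h1R⟩), DegreeBounds.Basic.charDegree_irr] at h1
    push_cast at h1
    exact_mod_cast (show (1 : ℂ) - ((R.card : ℂ) - 1) * ((p : ℂ) - 1) = (δ : ℂ) * (n0 : ℂ) by
      linear_combination h1)
  have hp2 : (2 : ℤ) ≤ p := by exact_mod_cast hp.two_le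
  have hn0 : (n0 : ℤ) + 1 ≤ p := by exact_mod_cast hn0lt
  have hn02 : 2 ≤ n0 := by
    have := hdeg1 (Y 1) hY1
    omega
  have he : R.card = 2 ∧ δ = -1 ∧ (n0 : ℤ) = (p : ℤ) - 2 := by
    have hpos : 1 ≤ R.card := Finset.card_pos.mpr ⟨_, h1R⟩
    have hn02' : (2 : ℤ) ≤ n0 := by exact_mod_cast hn02
    rcases Nat.lt_or_ge R.card 2 with hlt | hge
    · exfalso
      have : R.card = 1 := by omega
      rw [this] at hrel1
      rcases hδ with rfl | rfl <;> push_cast at hrel1 <;> omega
    · rcases Nat.lt_or_ge R.card 3 with hlt | hge3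
      · have he2 : R.card = 2 := by omega
        rw [he2] at hrel1
        rcases hδ with rfl | rfl
        · exfalso; push_cast at hrel1; omega
        · refine ⟨he2, rfl, ?_⟩
          push_cast at hrel1; omega
      · exfalso
        have : (3 : ℤ) ≤ R.card := by exact_mod_cast hge3
        have := mul_le_mul_of_nonneg_right (by linarith : (2 : ℤ) ≤ (R.card : ℤ) - 1)
          (by linarith : (0 : ℤ) ≤ (p : ℤ) - 1)
        rcases hδ with rfl | rfl <;> linarith
  obtain ⟨he2, hδ', hn0eq⟩ := he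
  obtain ⟨χ₁, hχ₁⟩ : ∃ χ₁, R.erase (oneChar G) = {χ₁} := Finset.card_eq_one.mp (by
    rw [Finset.card_erase_of_mem h1R, he2])
  have hmem : χ₁ ∈ R.erase (oneChar G) := by rw [hχ₁]; exact Finset.mem_singleton_self _
  have hne₁ := Finset.ne_of_mem_erase hmem
  obtain ⟨ha₁, hd₁⟩ := hneg χ₁ (Finset.mem_of_mem_erase hmem) hne₁
  have hval₁ : ∀ u : (ZMod p)ˣ, ∀ v ∈ V, (χ₁ : G → ℂ) (x ^ (u : ZMod p).val * v) = -1 :=
    fun u v hv => by
      rw [(hR χ₁ (Finset.mem_of_mem_erase hmem)).2 u v hv, ha₁, Int.cast_neg, Int.cast_one]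
  have hone₁ : (χ₁ : G → ℂ) 1 = (p : ℂ) - 1 := by
    rw [DegreeBounds.Basic.charDegree_irr, ← hd₁]; push_cast; ring
  -- `V` is trivial
  have hVbot : V = ⊥ := by
    rw [Subgroup.eq_bot_iff_forall]
    intro v hv
    have hsum : ∑ z : ZMod p, (χ₁ : G → ℂ) (x ^ z.val) = 0 := by
      rw [sum_zmod_split, ZMod.val_zero, pow_zero, hone₁, Finset.sum_congr rfl
        (fun u _ => by simpa using hval₁ u 1 (one_mem V)), Finset.sum_const, Finset.card_univ,
        ZMod.card_units, nsmul_eq_mul, Nat.cast_sub hp.one_le]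
      push_cast
      ring
    have h3 := sum_mul_eq_zero hxp (isCharacter_irr χ₁) hsum v
    rw [sum_zmod_split, ZMod.val_zero, pow_zero, one_mul,
      Finset.sum_congr rfl (fun u _ => hval₁ u v hv), Finset.sum_const, Finset.card_univ,
      ZMod.card_units, nsmul_eq_mul, Nat.cast_sub hp.one_le] at h3
    push_cast at h3
    have h4 : (χ₁ : G → ℂ) v = (χ₁ : G → ℂ) 1 := by rw [hone₁]; linear_combination h3
    have hxne : (χ₁ : G → ℂ) x ≠ (χ₁ : G → ℂ) 1 := by
      have h5 := hval₁ 1 1 (one_mem V)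
      rw [mul_one, Units.val_one, pow_val_one hxp] at h5
      rw [h5, hone₁]
      intro h6
      have : (p : ℂ) = 0 := by linear_combination -h6
      exact hp.ne_zero (by exact_mod_cast this)
    have hker := Characters.Kernel.charKer_eq_bot_of_simple (isCharacter_irr χ₁) hxne
    have h7 := (Characters.Kernel.mem_charKer (isCharacter_irr χ₁) v).mpr h4
    rwa [hker, Subgroup.mem_bot] at h7
  -- every character is one of these
  have hall : ∀ χ : Cfsg.IrrCharacter G, χ = oneChar G ∨ χ = χ₁ ∨ ∃ q, Y q = χ := by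
    intro χ
    by_contra hc
    push Not at hc
    obtain ⟨hc1, hc2, hc3⟩ := hc
    have hnR : χ ∉ R := fun hR' => hc2 (Finset.mem_singleton.mp
      (hχ₁ ▸ Finset.mem_erase.mpr ⟨hc1, hR'⟩))
    have hz := hzero χ hnR hc3
    subst hVbot
    simp only [aval_bot] at hz
    exact absurd (Nat.le_of_dvd (DegreeBounds.Basic.charDegree_pos χ)
      (sum_zero_degree hxp χ hz)) (h χ).not_ge
  -- an element of order prime to `p`
  obtain ⟨g, hg1, hgr⟩ : ∃ g : G, g ≠ 1 ∧ ¬ p ∣ orderOf g := by
    obtain ⟨hmul, hnd⟩ := Family.not_dvd_div hx h2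
    have h1 : Nat.card G / p ≠ 1 := fun h1 => hnc ⟨⟨fun a b => by
      haveI : IsCyclic G := isCyclic_of_prime_card (p := p) (by rw [← hmul, h1, mul_one])
      exact IsCyclic.commGroup.mul_comm a b⟩⟩
    obtain ⟨r, hr, hrd⟩ := Nat.exists_prime_and_dvd h1
    haveI : Fact r.Prime := ⟨hr⟩
    obtain ⟨g, hg⟩ := exists_prime_orderOf_dvd_card' r (hrd.trans (Dvd.intro_left p hmul))
    refine ⟨g, fun h => hr.ne_one (by rw [← hg, h, orderOf_one]), fun hd => ?_⟩
    rw [hg] at hd
    exact hnd ((Nat.prime_dvd_prime_iff_eq hp hr).mp hd ▸ hrd)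
  set b := (χ₁ : G → ℂ) g
  set t := Fintype.card ((ZMod p)ˣ ⧸ autE hxp) with ht
  have hRset : R = {oneChar G, χ₁} := by rw [← Finset.insert_erase h1R, hχ₁]
  have hte : t * 2 = p - 1 := by
    rw [← he2, hRc, Nat.card_eq_fintype_card]; exact card_mul_card _
  have hYg : ∀ q, (Y q : G → ℂ) g = b - 1 := by
    intro q
    rw [hYreg q g hgr]
    have h1 := hrel g hgr
    rw [hRset, Finset.sum_pair (Ne.symm hne₁), ha1, ha₁, oneChar_apply, hδ'] at h1
    push_cast at h1
    linear_combination h1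
  have hYdeg : ∀ q, (Y q : G → ℂ) 1 = (p : ℂ) - 2 := by
    intro q
    rw [hYreg q 1 (by simp [hp.ne_one]), DegreeBounds.Basic.charDegree_irr]
    exact_mod_cast congrArg (Int.cast : ℤ → ℂ) hn0eq
  have huniv : (Finset.univ : Finset (Cfsg.IrrCharacter G)) =
      {oneChar G, χ₁} ∪ Finset.univ.image Y := by
    ext χ
    simp only [Finset.mem_univ, Finset.mem_union, Finset.mem_insert, Finset.mem_singleton,
      Finset.mem_image, true_and, true_iff]
    rcases hall χ with h | h | h
    · exact Or.inl (Or.inl h)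
    · exact Or.inl (Or.inr h)
    · exact Or.inr h
  have horth := sum_degree_mul_apply (G := G) g
  rw [if_neg hg1, huniv, Finset.sum_union, Finset.sum_pair (Ne.symm hne₁),
    Finset.sum_image (fun q _ r _ e => hYinj e)] at horth
  swap
  · rw [Finset.disjoint_left]
    intro χ hχ hχ'
    obtain ⟨q, -, rfl⟩ := Finset.mem_image.mp hχ'
    exact hYR q (hRset ▸ hχ)
  simp only [oneChar_apply, hone₁, hYdeg, hYg, Finset.sum_const, Finset.card_univ,
    nsmul_eq_mul, ← ht] at horth
  have hpt : (p : ℂ) = 2 * (t : ℂ) + 1 := by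
    have h1 : t * 2 + 1 = p := by have := hp.two_le; omega
    rw [← h1]; push_cast; ring
  rw [hpt] at horth
  have hkey : (t : ℂ) * (b - 1) = -1 := by
    have hne : (2 * (t : ℂ) + 1) ≠ 0 := by rw [← hpt]; exact_mod_cast hp.ne_zero
    have : (2 * (t : ℂ) + 1) * ((t : ℂ) * (b - 1) + 1) = 0 := by linear_combination horth
    linear_combination (mul_eq_zero.mp this).resolve_left hne
  have ht0 : t ≠ 0 := fun h0 => by simp [h0] at hkey
  have hq : ((((t : ℚ) - 1) / t : ℚ) : ℂ) = b := by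
    push_cast
    rw [div_eq_iff (Nat.cast_ne_zero.mpr ht0)]
    linear_combination -hkey
  obtain ⟨z, hz⟩ := MathieuBlocks.Values.exists_int_of_rat
    (isIntegral_apply (isCharacter_irr χ₁) g) _ hq
  have hzk : (t : ℤ) * (z - 1) = -1 := by
    have : (t : ℂ) * ((z : ℂ) - 1) = -1 := by rw [hz]; exact hkey
    exact_mod_cast this
  have ht1 : t = 1 := by
    have : (t : ℤ) ∣ 1 := ⟨-(z - 1), by linarith⟩
    exact_mod_cast Int.eq_one_of_dvd_one (Int.natCast_nonneg t) this
  omega

end Cfsg.Agent.Lib.SmallDegrees.Simple
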